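import Mathlib
import Groth.Prelude.Def_W4c1gvcharpAbut
set_option linter.style.haveILetI false

/-!
# A morphism of abutments vanishing on a line
-/

set_option autoImplicit false
universe v u

open CategoryTheory CategoryTheory.Limits

namespace HomAlg41

variable {C : Type u} [Category.{v} C] [Abelian C]

lemma isZero_page {r₀ : ℤ} (E : CohomologicalSpectralSequence C r₀) (pq : ℤ × ℤ)
    (h : IsZero ((E.page r₀ le_rfl).X pq)) (r : ℤ) (hr : r₀ ≤ r) :
    IsZero ((E.page r hr).X pq) := by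
  induction r, hr using Int.le_induction with
  | base => exact h
  | succ n hn ih =>
    refine IsZero.of_iso ?_ (E.iso n (n + 1) pq rfl hn).symm
    exact (HomologicalComplex.exactAt_iff_isZero_homology _ _).1
      (ShortComplex.exact_of_isZero_X₂ _ ih)

lemma hom_f_zero {r₀ : ℤ} {E E' : CohomologicalSpectralSequence C r₀} (φ : E ⟶ E') (pq : ℤ × ℤ)
    (h : (φ.hom r₀ le_rfl).f pq = 0) (r : ℤ) (hr : r₀ ≤ r) : (φ.hom r hr).f pq = 0 := by
  induction r, hr using Int.le_induction with
  | base => exact h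
  | succ n hn ih =>
    have h0 : HomologicalComplex.homologyMap (φ.hom n hn) pq = 0 := by
      rw [← cancel_epi ((E.page n hn).homologyπ pq),
        HomologicalComplex.homologyπ_naturality, comp_zero]
      have : HomologicalComplex.cyclesMap (φ.hom n hn) pq = 0 := by
        rw [← cancel_mono ((E'.page n hn).iCycles pq)]
        simp [ih]
      rw [this, zero_comp]
    have := φ.comm n (n + 1) pq rfl hn
    rw [h0, zero_comp] at this
    exact (cancel_epi (E.iso n (n + 1) pq rfl hn).hom).1 (this.symm.trans comp_zero.symm)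

lemma eq_of_isZero_subquot {X : C} (Z B : Subobject X) (h : B ≤ Z)
    (h0 : IsZero (SpSeq.subquot Z B h)) : B = Z := by
  haveI : Epi (B.ofLE Z h) := Preadditive.epi_of_isZero_cokernel _ h0
  haveI : IsIso (B.ofLE Z h) := isIso_of_mono_of_epi _
  exact le_antisymm h (Subobject.le_of_comm (inv (B.ofLE Z h)) (by
    rw [IsIso.inv_comp_eq, Subobject.ofLE_arrow]))

lemma fil_eq_succ {r₀ : ℤ} {E : CohomologicalSpectralSequence C r₀} {H : ℤ → C}
    (a : SpSeq.Abutment E H) (l i : ℤ) (h : IsZero ((E.page r₀ le_rfl).X (i, l - i))) :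
    a.fil l (i + 1) = a.fil l i := by
  have h1 := (isZero_page E (i, l - i) h _ (a.stat (i, l - i)).1).of_iso (a.β (i, l - i)).symm
  have h2 : ∀ n, n = i + (l - i) →
      IsZero (SpSeq.grPiece (a.fil n) (a.anti n) i) := by
    rintro _ rfl
    exact h1
  exact eq_of_isZero_subquot _ _ _ (h2 l (by ring))

lemma fil_eq_top {r₀ : ℤ} {E : CohomologicalSpectralSequence C r₀} {H : ℤ → C}
    (a : SpSeq.Abutment E H) (l a₀ : ℤ) (ha : a.IsFinite l)
    (h : ∀ i : ℤ, i < a₀ → IsZero ((E.page r₀ le_rfl).X (i, l - i))) : a.fil l a₀ = ⊤ := by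
  obtain ⟨⟨b, hb⟩, -⟩ := ha
  have hb : a.fil l b = ⊤ := hb
  rcases le_total a₀ b with hab | hab
  · exact top_le_iff.1 (hb ▸ a.anti l hab)
  · suffices ∀ i, b ≤ i → i ≤ a₀ → a.fil l i = ⊤ from this a₀ hab le_rfl
    intro i hi
    induction i, hi using Int.le_induction with
    | base => exact fun _ => hb
    | succ n hn ih =>
      intro hn'
      rw [fil_eq_succ a l n (h n (by omega))]
      exact ih (by omega)

lemma fil_eq_bot {r₀ : ℤ} {E : CohomologicalSpectralSequence C r₀} {H : ℤ → C}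
    (a : SpSeq.Abutment E H) (l a₀ : ℤ) (ha : a.IsFinite l)
    (h : ∀ i : ℤ, a₀ < i → IsZero ((E.page r₀ le_rfl).X (i, l - i))) :
    a.fil l (a₀ + 1) = ⊥ := by
  obtain ⟨-, ⟨b, hb⟩⟩ := ha
  have hb : a.fil l b = ⊥ := hb
  rcases le_total b (a₀ + 1) with hab | hab
  · exact le_bot_iff.1 (hb ▸ a.anti l hab)
  · suffices ∀ i, a₀ + 1 ≤ i → a.fil l i = a.fil l (a₀ + 1) by rw [← this b hab, hb]
    intro i hi
    induction i, hi using Int.le_induction with
    | base => rfl
    | succ n hn ih => rw [fil_eq_succ a l n (h n (by omega)), ih]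

/-- The vanishing of the map on abutments. -/
theorem abutHom_hom_eq_zero {r₀ : ℤ} {E E' : CohomologicalSpectralSequence C r₀} (φ : E ⟶ E')
    {H H' : ℤ → C} (a : SpSeq.Abutment E H) (a' : SpSeq.Abutment E' H')
    (ha : ∀ n : ℤ, a.IsFinite n) (ha' : ∀ n : ℤ, a'.IsFinite n)
    (f : SpSeqMor.AbutHom φ a a') (l a₀ : ℤ)
    (hE : ∀ i : ℤ, i < a₀ → IsZero ((E.page r₀ le_rfl).X (i, l - i)))
    (hE' : ∀ i : ℤ, a₀ < i → IsZero ((E'.page r₀ le_rfl).X (i, l - i)))
    (hφ : (φ.hom r₀ le_rfl).f (a₀, l - a₀) = 0) :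
    f.hom l = 0 := by
  set pq : ℤ × ℤ := (a₀, l - a₀)
  have hgr : (f.fil l).gr a₀ = 0 := by
    let M := max (a.rk pq) (a'.rk pq)
    have h := f.comm pq (M - a.rk pq).toNat (M - a'.rk pq).toNat (by omega)
    rw [hom_f_zero φ pq hφ] at h
    simp only [zero_comp, comp_zero] at h
    have h' := (cancel_epi (a.β pq).hom).1 (h.trans comp_zero.symm)
    have h2 : ∀ n, n = pq.1 + pq.2 → (f.fil n).gr pq.1 = 0 := by
      rintro _ rfl
      exact h'
    exact h2 l (by simp [pq])
  have htop := fil_eq_top a l a₀ (ha l) hE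
  have hbot := fil_eq_bot a' l a₀ (ha' l) hE'
  haveI : IsIso ((a.filObj l).fil a₀).arrow := (Subobject.isIso_arrow_iff_eq_top _).2 htop
  have hz : (a'.filObj l).stepLE (Int.le_add_one (le_refl a₀)) = 0 := by
    rw [← cancel_mono ((a'.filObj l).fil a₀).arrow, Subobject.ofLE_arrow, zero_comp]
    change (a'.fil l (a₀ + 1)).arrow = 0
    rw [hbot, Subobject.bot_arrow]
  haveI : Mono (cokernel.π ((a'.filObj l).stepLE (Int.le_add_one (le_refl a₀)))) := by
    have : IsIso (cokernel.π ((a'.filObj l).stepLE (Int.le_add_one (le_refl a₀)))) :=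
      cokernel.π_of_zero hz
    infer_instance
  have hlift : (f.fil l).lift a₀ = 0 := by
    rw [← cancel_mono (cokernel.π ((a'.filObj l).stepLE (Int.le_add_one (le_refl a₀)))), zero_comp]
    have := congrArg (cokernel.π ((a.filObj l).stepLE (Int.le_add_one (le_refl a₀))) ≫ ·) hgr
    simp only [SpSeqMor.FilLift.gr] at this
    exact (cokernel.π_desc _ _ _).symm.trans (this.trans comp_zero)
  show (f.fil l).hom = 0
  rw [← cancel_epi ((a.filObj l).fil a₀).arrow, comp_zero, ← (f.fil l).lift_arrow, hlift, zero_comp]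

end HomAlg41
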