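import Mathlib
import Groth.Agent.FilD41.Basic
set_option linter.style.haveILetI false

/-!
# A quasi-isomorphism from a complex with terms in a class of objects
-/

set_option autoImplicit false
universe v u

open CategoryTheory CategoryTheory.Limits
open scoped ZeroObject

namespace HomAlg41.ClassResolution

variable {C : Type u} [Category.{v} C] [Abelian C] (K' K'' : ObjectProperty C)
  (P : ChainComplex C ℤ) (d : ℤ)

/-- The data in degree `n`: the term, its map to `P` and its cycles. -/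
structure Stage (n : ℤ) where
  X : C
  u : X ⟶ P.X n
  Z : C
  i : Z ⟶ X
  mono_i : Mono i
  z : Z ⟶ P.cycles n
  hz : z ≫ P.iCycles n = i ≫ u
  hepi : Epi (z ≫ P.homologyπ n)
  hX : d ≤ n → K'' X
  hX0 : n < d → IsZero X
  hZ : K' Z

variable {K' K'' P d}

/-- Two consecutive stages fit together. -/
structure Linked {n : ℤ} (t : Stage K' K'' P d n) (t' : Stage K' K'' P d (n + 1)) : Type (max u v) where
  e : t'.X ⟶ t.Z
  comm : (e ≫ t.i) ≫ t.u = t'.u ≫ P.d (n + 1) n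
  zero : t'.i ≫ e = 0
  ker : ∀ ⦃A : C⦄ (y : A ⟶ t'.X), y ≫ e = 0 → ∃ y' : A ⟶ t'.Z, y' ≫ t'.i = y
  bdry : ∀ ⦃A : C⦄ (y : A ⟶ t.Z), y ≫ t.z ≫ P.homologyπ n = 0 →
    ∃ (A' : C) (π : A' ⟶ A) (_ : Epi π) (x : A' ⟶ t'.X), π ≫ y = x ≫ e

variable [K'.IsClosedUnderIsomorphisms]

/-- The zero stage. -/
noncomputable def zeroStage (hP : ∀ i, K' (P.homology i)) (hd : ∀ i < d, IsZero (P.homology i))
    (n : ℤ) (hn : n < d) : Stage K' K'' P d n where
  X := 0
  u := 0
  Z := 0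
  i := 0
  mono_i := ⟨fun _ _ _ => (isZero_zero C).eq_of_tgt _ _⟩
  z := 0
  hz := by simp
  hepi := ⟨fun _ _ _ => (hd n hn).eq_of_src _ _⟩
  hX h := absurd h (by omega)
  hX0 _ := isZero_zero C
  hZ := K'.prop_of_iso ((hd n hn).iso (isZero_zero C)) (hP n)

lemma exists_step (hsub : K'' ≤ K')
    (h1 : ∀ ⦃A A' : C⦄ (u : A ⟶ A'), K' A' → Epi u → ∃ (B : C) (v : B ⟶ A), K'' B ∧ Epi (v ≫ u))
    (h2 : ∀ ⦃A B : C⦄ (u : A ⟶ B), K' A → K' B → Epi u → K' (kernel u))
    (h3 : ∀ ⦃B B' : C⦄, K'' B → K'' B' → K'' (B ⨯ B'))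
    (hP : ∀ i, K' (P.homology i)) (hd : ∀ i < d, IsZero (P.homology i))
    {n : ℤ} (t : Stage K' K'' P d n) :
    ∃ t' : Stage K' K'' P d (n + 1), Nonempty (Linked t t') := by
  by_cases hn : n + 1 < d
  · refine ⟨zeroStage hP hd (n + 1) hn, ⟨?_⟩⟩
    have hX : IsZero t.X := t.hX0 (by omega)
    haveI := t.mono_i
    exact
    { e := 0
      comm := by
        simp [zeroStage]
        exact zero_comp
      zero := by simp
      ker := fun A y _ => ⟨0, (isZero_zero C).eq_of_tgt _ _⟩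
      bdry := fun A y _ => ⟨A, 𝟙 A, inferInstance, 0, by
        rw [zero_comp, Category.id_comp, ← cancel_mono t.i]
        exact hX.eq_of_tgt _ _⟩ }
  haveI := t.mono_i
  haveI := t.hepi
  let N := kernel (t.z ≫ P.homologyπ n)
  have hN : K' N := h2 _ t.hZ (hP n) inferInstance
  let A₀ := pullback (P.toCycles (n + 1) n) (kernel.ι (t.z ≫ P.homologyπ n) ≫ t.z)
  let q : A₀ ⟶ N := pullback.snd _ _
  have hq : Epi q := by
    rw [epi_iff_surjective_up_to_refinements]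
    intro A y
    have h0 : (y ≫ kernel.ι (t.z ≫ P.homologyπ n) ≫ t.z) ≫ P.homologyπ n = 0 := by
      simp
    obtain ⟨A', π, hπ, x, hx⟩ := (ShortComplex.exact_of_g_is_cokernel
      (ShortComplex.mk (P.toCycles (n + 1) n) (P.homologyπ n) (P.toCycles_comp_homologyπ _ _))
      (P.homologyIsCokernel (n + 1) n (by simp))).exact_up_to_refinements _ h0
    dsimp at x hx
    exact ⟨A', π, hπ, pullback.lift x (π ≫ y) (by simp [← hx]), (pullback.lift_snd _ _ _).symm⟩
  obtain ⟨B₂, v₂, hB₂, hv₂⟩ := h1 q hN hq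
  obtain ⟨B₃, v₃, hB₃, hv₃⟩ := h1 (P.homologyπ (n + 1)) (hP _) inferInstance
  let eN : B₂ ⨯ B₃ ⟶ N := prod.fst ≫ v₂ ≫ q
  haveI : Epi (prod.fst : B₂ ⨯ B₃ ⟶ B₂) := by
    have : Epi (prod.lift (𝟙 B₂) 0 ≫ (prod.fst : B₂ ⨯ B₃ ⟶ B₂)) := by
      rw [prod.lift_fst]; infer_instance
    exact epi_of_epi (prod.lift (𝟙 B₂) 0) _
  have heN : Epi eN := epi_comp _ _
  let u' : B₂ ⨯ B₃ ⟶ P.X (n + 1) :=
    prod.fst ≫ v₂ ≫ pullback.fst _ _ + prod.snd ≫ v₃ ≫ P.iCycles (n + 1)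
  have hcomm : u' ≫ P.d (n + 1) n =
      (eN ≫ kernel.ι (t.z ≫ P.homologyπ n) ≫ t.i) ≫ t.u := by
    simp only [u', eN, Preadditive.add_comp, Category.assoc, ← t.hz]
    rw [P.iCycles_d, comp_zero, comp_zero, add_zero, ← P.toCycles_i (n + 1) n]
    simp only [q, pullback.condition_assoc, Category.assoc]
  have hz' : (kernel.ι eN ≫ u') ≫ P.d (n + 1) n = 0 := by
    rw [Category.assoc, hcomm, Category.assoc, kernel.condition_assoc, zero_comp]
  let z' : kernel eN ⟶ P.cycles (n + 1) :=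
    P.liftCycles (kernel.ι eN ≫ u') n (by simp) hz'
  have hl0 : prod.lift (0 : B₃ ⟶ B₂) (𝟙 B₃) ≫ prod.fst = 0 := prod.lift_fst _ _
  have hl1 : prod.lift (0 : B₃ ⟶ B₂) (𝟙 B₃) ≫ prod.snd = 𝟙 B₃ := prod.lift_snd _ _
  let l : B₃ ⟶ kernel eN := kernel.lift eN (prod.lift 0 (𝟙 B₃)) (by simp [eN, reassoc_of% hl0])
  have hl : l ≫ z' = v₃ := by
    rw [← cancel_mono (P.iCycles (n + 1))]
    simp [l, z', u', reassoc_of% hl0, reassoc_of% hl1]
  refine ⟨
    { X := B₂ ⨯ B₃, u := u', Z := kernel eN, i := kernel.ι eN, mono_i := inferInstance,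
      z := z', hz := P.liftCycles_i _ _ _ _, hepi := ?_, hX := fun _ => h3 hB₂ hB₃,
      hX0 := fun h => absurd h hn, hZ := h2 eN (hsub _ (h3 hB₂ hB₃)) hN heN }, ⟨?_⟩⟩
  · have : Epi (l ≫ z' ≫ P.homologyπ (n + 1)) := by
      rw [← Category.assoc, hl]
      exact hv₃
    exact epi_of_epi l _
  exact
  { e := eN ≫ kernel.ι (t.z ≫ P.homologyπ n)
    comm := by
      rw [hcomm]
      simp
    zero := by simp
    ker := fun A y hy => by
      have : y ≫ eN = 0 := by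
        rw [← cancel_mono (kernel.ι (t.z ≫ P.homologyπ n)), Category.assoc, hy, zero_comp]
      exact ⟨kernel.lift _ y this, kernel.lift_ι _ _ _⟩
    bdry := fun A y hy => by
      obtain ⟨A', π, hπ, x, hx⟩ := surjective_up_to_refinements_of_epi eN (kernel.lift _ y hy)
      exact ⟨A', π, hπ, x, by rw [← reassoc_of% hx, kernel.lift_ι]⟩ }

theorem exists_quasiIso (hsub : K'' ≤ K')
    (h1 : ∀ ⦃A A' : C⦄ (u : A ⟶ A'), K' A' → Epi u → ∃ (B : C) (v : B ⟶ A), K'' B ∧ Epi (v ≫ u))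
    (h2 : ∀ ⦃A B : C⦄ (u : A ⟶ B), K' A → K' B → Epi u → K' (kernel u))
    (h3 : ∀ ⦃B B' : C⦄, K'' B → K'' B' → K'' (B ⨯ B'))
    (hP : ∀ i, K' (P.homology i)) (hd : ∀ i < d, IsZero (P.homology i)) :
    ∃ (Q : ChainComplex C ℤ) (u : Q ⟶ P),
      (∀ i, d ≤ i → K'' (Q.X i)) ∧ (∀ i < d, IsZero (Q.X i)) ∧ QuasiIso u := by
  obtain ⟨g, hg⟩ := Groth.Agent.FilD41.exists_chain_up (T := fun n => Stage K' K'' P d n)
    (fun n t t' => Nonempty (Linked t t')) (d - 1)
    (fun n hn => zeroStage hP hd n (by omega))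
    (fun n hn => ⟨
      { e := 0
        comm := by simp [zeroStage]
        zero := by simp
        ker := fun A y _ => ⟨0, (isZero_zero C).eq_of_tgt _ _⟩
        bdry := fun A y _ => ⟨A, 𝟙 A, inferInstance, 0, (isZero_zero C).eq_of_tgt _ _⟩ }⟩)
    (fun n t => exists_step hsub h1 h2 h3 hP hd t)
  let L := fun n => (hg n).some
  let δ : ∀ n, (g (n + 1)).X ⟶ (g n).X := fun n => (L n).e ≫ (g n).i
  have hδ : ∀ n, δ (n + 1) ≫ δ n = 0 := fun n => by
    simp [δ, reassoc_of% (L n).zero]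
  let Q : ChainComplex C ℤ := ChainComplex.of (fun n => (g n).X) δ hδ
  have hQd : ∀ n, Q.d (n + 1) n = δ n := fun n => ChainComplex.of_d (fun n => (g n).X) δ n
  let u : Q ⟶ P :=
    { f := fun n => (g n).u
      comm' := by
        rintro _ n rfl
        rw [hQd]
        exact (L n).comm.symm }
  refine ⟨Q, u, fun i hi => (g i).hX hi, fun i hi => (g i).hX0 hi, ⟨fun i => ?_⟩⟩
  rw [quasiIsoAt_iff_isIso_homologyMap]
  obtain ⟨m, rfl⟩ : ∃ m, i = m + 1 := ⟨i - 1, by omega⟩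
  haveI := (g m).mono_i
  haveI := (g (m + 1)).mono_i
  haveI := (g (m + 1)).hepi
  have key : ∀ {A : C} (y : A ⟶ (g (m + 1)).Z) (c : A ⟶ Q.cycles (m + 1)),
      c ≫ Q.iCycles (m + 1) = y ≫ (g (m + 1)).i →
      c ≫ HomologicalComplex.cyclesMap u (m + 1) = y ≫ (g (m + 1)).z := by
    intro A y c hc
    rw [← cancel_mono (P.iCycles (m + 1)), Category.assoc, HomologicalComplex.cyclesMap_i,
      ← Category.assoc, hc, Category.assoc, Category.assoc, (g (m + 1)).hz]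
  haveI : Epi (HomologicalComplex.homologyMap u (m + 1)) := by
    rw [epi_iff_surjective_up_to_refinements]
    intro A h
    obtain ⟨A', π, hπ, y, hy⟩ := surjective_up_to_refinements_of_epi
      ((g (m + 1)).z ≫ P.homologyπ (m + 1)) h
    have h0 : (y ≫ (g (m + 1)).i) ≫ Q.d (m + 1) m = 0 := by
      rw [hQd]
      simp [δ, reassoc_of% (L m).zero]
    refine ⟨A', π, hπ, Q.liftCycles _ m (by simp) h0 ≫ Q.homologyπ (m + 1), ?_⟩
    rw [hy, Category.assoc, HomologicalComplex.homologyπ_naturality, ← Category.assoc,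
      ← Category.assoc, key y _ (Q.liftCycles_i _ _ _ _)]
  haveI : Mono (HomologicalComplex.homologyMap u (m + 1)) := by
    apply Preadditive.mono_of_cancel_zero
    intro A h hh
    obtain ⟨A', π, hπ, c, hc⟩ := surjective_up_to_refinements_of_epi (Q.homologyπ (m + 1)) h
    have h0 : (c ≫ Q.iCycles (m + 1)) ≫ (L m).e = 0 := by
      rw [← cancel_mono (g m).i, zero_comp, Category.assoc, Category.assoc]
      rw [show (L m).e ≫ (g m).i = Q.d (m + 1) m from (hQd m).symm]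
      exact (congrArg (c ≫ ·) (Q.iCycles_d (m + 1) m)).trans comp_zero
    obtain ⟨y, hy⟩ := (L m).ker _ h0
    have h1' : y ≫ (g (m + 1)).z ≫ P.homologyπ (m + 1) = 0 := by
      rw [← Category.assoc, ← key y c hy.symm, Category.assoc,
        ← HomologicalComplex.homologyπ_naturality, ← reassoc_of% hc, hh, comp_zero]
    obtain ⟨A'', π', hπ', x, hx⟩ := (L (m + 1)).bdry y h1'
    have : π' ≫ c = x ≫ Q.toCycles (m + 1 + 1) (m + 1) := by
      rw [← cancel_mono (Q.iCycles (m + 1)), Category.assoc, Category.assoc,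
        HomologicalComplex.toCycles_i, hQd, ← hy, reassoc_of% hx]
    rw [← cancel_epi π, ← cancel_epi π', hc, reassoc_of% this]
    simp
  exact isIso_of_mono_of_epi _

end HomAlg41.ClassResolution
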