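import Mathlib
set_option linter.style.haveILetI false

/-!
# An injective resolution of the source, degreewise split over one of the target
-/

set_option autoImplicit false
universe v u

open CategoryTheory CategoryTheory.Limits

namespace HomAlg41

variable {C : Type u} [Category.{v} C] [Abelian C]

namespace Path

variable (I : CochainComplex C ℕ)

open ZeroObject in
/-- `0, I⁰, I¹, ...` -/
noncomputable def Q : ℕ → C
  | 0 => 0
  | (n + 1) => I.X n

/-- The identification `Iᵖ = Qᵖ⁺¹`. -/
noncomputable def qIn (p : ℕ) : I.X p ⟶ Q I (p + 1) := 𝟙 (I.X p)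

/-- The identification `Qᵖ⁺¹ = Iᵖ`. -/
noncomputable def qOut (p : ℕ) : Q I (p + 1) ⟶ I.X p := 𝟙 (I.X p)

@[simp] lemma qIn_qOut (p : ℕ) : qIn I p ≫ qOut I p = 𝟙 _ := Category.id_comp _
@[simp] lemma qOut_qIn (p : ℕ) : qOut I p ≫ qIn I p = 𝟙 _ := Category.id_comp _
@[simp] lemma qIn_qOut_assoc (p : ℕ) {Z : C} (h : I.X p ⟶ Z) : qIn I p ≫ qOut I p ≫ h = h := by
  rw [← Category.assoc, qIn_qOut, Category.id_comp]

/-- The differential on the shifted terms. -/
noncomputable def e : (p : ℕ) → (Q I p ⟶ I.X p)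
  | 0 => 0
  | (n + 1) => qOut I n ≫ I.d n (n + 1)

lemma e_succ (n : ℕ) : e I (n + 1) = qOut I n ≫ I.d n (n + 1) := rfl

lemma e_d (p : ℕ) : e I p ≫ I.d p (p + 1) = 0 := by
  cases p with
  | zero => simp [e]
  | succ n => simp [e_succ]

/-- The differential of the path complex. -/
noncomputable def δ (p : ℕ) : I.X p ⊞ Q I p ⟶ I.X (p + 1) ⊞ Q I (p + 1) :=
  biprod.lift (biprod.fst ≫ I.d p (p + 1)) ((biprod.fst - biprod.snd ≫ e I p) ≫ qIn I p)

@[reassoc (attr := simp)]
lemma δ_fst (p : ℕ) : δ I p ≫ biprod.fst = biprod.fst ≫ I.d p (p + 1) :=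
  biprod.lift_fst _ _

@[reassoc (attr := simp)]
lemma δ_snd (p : ℕ) : δ I p ≫ biprod.snd = (biprod.fst - biprod.snd ≫ e I p) ≫ qIn I p :=
  biprod.lift_snd _ _

lemma δ_sq (p : ℕ) : δ I p ≫ δ I (p + 1) = 0 := by
  apply biprod.hom_ext
  · simp
  · simp [e_succ, Preadditive.comp_sub, Preadditive.sub_comp, e_d,
      reassoc_of% (e_d I p)]

/-- The contractible complex `Iᵖ ⊞ Iᵖ⁻¹`. -/
noncomputable def cplx : CochainComplex C ℕ :=
  CochainComplex.of (fun p => I.X p ⊞ Q I p) (δ I) (δ_sq I)

lemma cplx_d (p : ℕ) : (cplx I).d p (p + 1) = δ I p :=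
  CochainComplex.of_d (fun p => I.X p ⊞ Q I p) (δ I) p

/-- The projection onto `I`. -/
noncomputable def proj : cplx I ⟶ I where
  f p := (biprod.fst : I.X p ⊞ Q I p ⟶ I.X p)
  comm' := by
    rintro p _ rfl
    rw [cplx_d]
    exact (δ_fst I p).symm

/-- The contraction in one degree. -/
noncomputable def h (p : ℕ) : I.X (p + 1) ⊞ Q I (p + 1) ⟶ I.X p ⊞ Q I p :=
  biprod.snd ≫ qOut I p ≫ biprod.inl

lemma key_zero : 𝟙 (I.X 0 ⊞ Q I 0) = δ I 0 ≫ h I 0 := by
  apply biprod.hom_ext
  · simp [h, e]
  · exact (isZero_zero C).eq_of_tgt _ _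

lemma key (n : ℕ) : 𝟙 (I.X (n + 1) ⊞ Q I (n + 1)) =
    δ I (n + 1) ≫ h I (n + 1) + h I n ≫ δ I n := by
  apply biprod.hom_ext
  · simp [h, e_succ]
  · simp [h, Preadditive.sub_comp, Preadditive.comp_sub]

/-- The contraction. -/
noncomputable def hom (i j : ℕ) : (cplx I).X i ⟶ (cplx I).X j :=
  if hij : j + 1 = i then
    eqToHom (by subst hij; rfl) ≫ h I j
  else 0

lemma hom_succ (j : ℕ) : hom I (j + 1) j = h I j := by
  rw [hom, dif_pos rfl]
  exact Category.id_comp _

/-- The path complex is contractible. -/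
noncomputable def homotopy : Homotopy (𝟙 (cplx I)) 0 where
  hom := hom I
  zero i j hij := dif_neg hij
  comm p := by
    cases p with
    | zero =>
      have h0 : prevD 0 (hom I) = 0 := by
        simp only [prevD, AddMonoidHom.mk'_apply]
        rw [(cplx I).shape _ _ (by simp), comp_zero]
      rw [dNext_eq (hom I) (show (ComplexShape.up ℕ).Rel 0 1 by simp), h0]
      simp only [HomologicalComplex.id_f, HomologicalComplex.zero_f, add_zero]
      rw [cplx_d, hom_succ]
      exact key_zero I
    | succ n =>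
      rw [dNext_eq (hom I) (show (ComplexShape.up ℕ).Rel (n + 1) (n + 1 + 1) by simp),
        prevD_eq (hom I) (show (ComplexShape.up ℕ).Rel n (n + 1) by simp)]
      simp only [HomologicalComplex.id_f, HomologicalComplex.zero_f, add_zero]
      rw [cplx_d, cplx_d, hom_succ, hom_succ]
      exact key I n

end Path

/-- A complex homotopic to zero can be added without changing the homotopy type. -/
noncomputable def homotopyEquivBiprod {ι : Type*} {c : ComplexShape ι}
    (L P : HomologicalComplex C c) (h : Homotopy (𝟙 P) 0) : HomotopyEquiv L (L ⊞ P) where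
  hom := biprod.inl
  inv := biprod.fst
  homotopyHomInvId := Homotopy.ofEq biprod.inl_fst
  homotopyInvHomId :=
    ((Homotopy.ofEq (add_zero _).symm).trans
      (((Homotopy.refl (biprod.fst ≫ biprod.inl)).add
        ((Homotopy.ofEq (show (0 : L ⊞ P ⟶ L ⊞ P) = biprod.snd ≫ 0 ≫ biprod.inr by simp)).trans
          (((h.symm.compRight biprod.inr).compLeft biprod.snd).trans
            (Homotopy.ofEq (by simp))))))).trans (Homotopy.ofEq biprod.total)

/-- A split epimorphism is the projection off its kernel. -/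
lemma exists_iso_biprod_of_section {X Y : C} (b : X ⟶ Y) (s : Y ⟶ X) (hs : s ≫ b = 𝟙 Y) :
    ∃ (K : C) (e : X ≅ Y ⊞ K), b = e.hom ≫ biprod.fst := by
  refine ⟨kernel b,
    { hom := biprod.lift b (kernel.lift b (𝟙 _ - b ≫ s) (by simp [hs]))
      inv := biprod.desc s (kernel.ι b)
      hom_inv_id := by simp
      inv_hom_id := ?_ }, (biprod.lift_fst _ _).symm⟩
  apply biprod.hom_ext'
  · apply biprod.hom_ext
    · simp [hs]
    · simp [← cancel_mono (kernel.ι b), reassoc_of% hs]
  · apply biprod.hom_ext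
    · simp
    · simp [← cancel_mono (kernel.ι b)]

/-- An injective resolution of `G` mapping degreewise split onto one of `F`. -/
theorem exists_split_over [EnoughInjectives C] {G F : C} (α : G ⟶ F) (I : InjectiveResolution F) :
    ∃ (J : InjectiveResolution G) (β : J.cocomplex ⟶ I.cocomplex),
      J.ι ≫ β = (CochainComplex.single₀ C).map α ≫ I.ι ∧
      ∀ p : ℕ, ∃ (K : C) (e : J.cocomplex.X p ≅ I.cocomplex.X p ⊞ K),
        β.f p = e.hom ≫ biprod.fst := by
  let L := InjectiveResolution.of G
  let β₀ := InjectiveResolution.desc α I L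
  let P := Path.cplx I.cocomplex
  haveI hP : ∀ n, Injective (P.X n) := by
    intro n
    haveI : Injective (Path.Q I.cocomplex n) := by
      cases n with
      | zero =>
        open ZeroObject in exact inferInstanceAs (Injective (0 : C))
      | succ m => exact I.injective m
    haveI := I.injective n
    show Injective (I.cocomplex.X n ⊞ Path.Q I.cocomplex n)
    infer_instance
  haveI hJ : ∀ n, Injective ((L.cocomplex ⊞ P).X n) := by
    intro n
    haveI := L.injective n
    exact Injective.of_iso (HomologicalComplex.biprodXIso L.cocomplex P n).symm inferInstance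
  haveI : QuasiIso (L.ι ≫ (biprod.inl : L.cocomplex ⟶ L.cocomplex ⊞ P)) := by
    haveI : QuasiIso (biprod.inl : L.cocomplex ⟶ L.cocomplex ⊞ P) :=
      (homotopyEquivBiprod L.cocomplex P (Path.homotopy I.cocomplex)).quasiIso_hom
    infer_instance
  refine ⟨{ cocomplex := L.cocomplex ⊞ P, ι := L.ι ≫ biprod.inl },
    biprod.desc β₀ (Path.proj I.cocomplex), ?_, fun p => ?_⟩
  · dsimp
    rw [Category.assoc, biprod.inl_desc]
    exact InjectiveResolution.desc_commutes α I L
  · let b := (biprod.desc β₀ (Path.proj I.cocomplex)).f p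
    let s : I.cocomplex.X p ⟶ (L.cocomplex ⊞ P).X p :=
      (biprod.inl : I.cocomplex.X p ⟶ I.cocomplex.X p ⊞ Path.Q I.cocomplex p) ≫
        (biprod.inr : P ⟶ L.cocomplex ⊞ P).f p
    have hs : s ≫ b = 𝟙 _ := by
      simp only [s, b, Category.assoc]
      erw [← HomologicalComplex.comp_f, biprod.inr_desc]
      exact biprod.inl_fst (X := I.cocomplex.X p) (Y := Path.Q I.cocomplex p)
    obtain ⟨K, e, he⟩ := exists_iso_biprod_of_section b s hs
    exact ⟨K, e, he⟩

end HomAlg41
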