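import Mathlib
import Groth.Prelude.Def_SpSeq
import Groth.Agent.HomAlg41.SplitResolution
set_option linter.style.haveILetI false

/-!
# Injective resolutions of objects with a finite filtration
-/

set_option autoImplicit false
universe v u

open CategoryTheory CategoryTheory.Limits
open scoped ZeroObject

namespace HomAlg41

variable {C : Type u} [Category.{v} C] [Abelian C]

/-- A resolution of a subobject extends, by a monomorphism, to one of the object. -/
theorem exists_mono_over [EnoughInjectives C] {F G : C} (α : F ⟶ G) [Mono α]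
    (I : InjectiveResolution F) :
    ∃ (J : InjectiveResolution G) (β : I.cocomplex ⟶ J.cocomplex),
      Mono β ∧ I.ι ≫ β = (CochainComplex.single₀ C).map α ≫ J.ι := by
  let J₀ := InjectiveResolution.of G
  let β₀ := InjectiveResolution.desc α J₀ I
  let E : CochainComplex C ℕ :=
    CochainComplex.of (fun p => I.cocomplex.X (p + 1)) (fun _ => 0) (fun _ => zero_comp)
  have hE : ∀ p, E.d p (p + 1) = 0 := fun p =>
    CochainComplex.of_d (fun p => I.cocomplex.X (p + 1)) (fun _ => 0) p
  let γQ : ∀ p, I.cocomplex.X p ⟶ Path.Q E p := fun p =>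
    match p with
    | 0 => 0
    | n + 1 => (Path.qIn E n : I.cocomplex.X (n + 1) ⟶ Path.Q E (n + 1))
  let γf : ∀ p, I.cocomplex.X p ⟶ E.X p ⊞ Path.Q E p := fun p =>
    biprod.lift (I.cocomplex.d p (p + 1) : I.cocomplex.X p ⟶ E.X p) (γQ p)
  have he : ∀ p, Path.e E p = 0 := fun p => by
    cases p with
    | zero => rfl
    | succ n => rw [Path.e_succ, hE, comp_zero]
  have hγ : ∀ p, γf p ≫ Path.δ E p = I.cocomplex.d p (p + 1) ≫ γf (p + 1) := fun p => by
    apply biprod.hom_ext
    · simp only [Category.assoc, Path.δ_fst, hE, comp_zero, γf, biprod.lift_fst]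
      exact (I.cocomplex.d_comp_d p (p + 1) (p + 1 + 1)).symm
    · simp only [Category.assoc, Path.δ_snd, he, comp_zero, sub_zero, γf, biprod.lift_fst_assoc,
        biprod.lift_snd]
      rfl
  let P := Path.cplx E
  let γ : I.cocomplex ⟶ P :=
    { f := γf
      comm' := by
        rintro p _ rfl
        rw [Path.cplx_d]
        exact hγ p }
  haveI hP : ∀ n, Injective (P.X n) := fun n => by
    haveI : Injective (Path.Q E n) := by
      cases n with
      | zero => exact inferInstanceAs (Injective (0 : C))
      | succ m => exact I.injective (m + 1)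
    haveI : Injective (E.X n) := I.injective (n + 1)
    show Injective (E.X n ⊞ Path.Q E n)
    infer_instance
  haveI hJ : ∀ n, Injective ((J₀.cocomplex ⊞ P).X n) := fun n =>
    haveI := J₀.injective n
    Injective.of_iso (HomologicalComplex.biprodXIso J₀.cocomplex P n).symm inferInstance
  haveI : QuasiIso (J₀.ι ≫ (biprod.inl : J₀.cocomplex ⟶ J₀.cocomplex ⊞ P)) := by
    haveI : QuasiIso (biprod.inl : J₀.cocomplex ⟶ J₀.cocomplex ⊞ P) :=
      (homotopyEquivBiprod J₀.cocomplex P (Path.homotopy E)).quasiIso_hom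
    infer_instance
  let β : I.cocomplex ⟶ J₀.cocomplex ⊞ P := biprod.lift β₀ γ
  have hcomm : I.ι ≫ β₀ = (CochainComplex.single₀ C).map α ≫ J₀.ι :=
    InjectiveResolution.desc_commutes α J₀ I
  have hι0 : I.ι.f 0 ≫ I.cocomplex.d 0 1 = 0 := I.ι_f_zero_comp_complex_d
  refine ⟨{ cocomplex := J₀.cocomplex ⊞ P, ι := J₀.ι ≫ biprod.inl }, β, ?_, ?_⟩
  · haveI : ∀ p, Mono (β.f p) := fun p => by
      apply Preadditive.mono_of_cancel_zero
      intro T x hx
      have h1 : x ≫ β₀.f p = 0 := by
        have e : β.f p ≫ (biprod.fst : J₀.cocomplex ⊞ P ⟶ _).f p = β₀.f p := by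
          rw [← HomologicalComplex.comp_f, biprod.lift_fst]
        rw [← e, reassoc_of% hx, zero_comp]
      have h2 : x ≫ γf p = 0 := by
        have e : β.f p ≫ (biprod.snd : J₀.cocomplex ⊞ P ⟶ _).f p = γ.f p := by
          rw [← HomologicalComplex.comp_f, biprod.lift_snd]
        show x ≫ γ.f p = 0
        rw [← e, reassoc_of% hx, zero_comp]
      cases p with
      | succ n =>
        have h3 := congrArg (· ≫ biprod.snd) h2
        simp only [γf, Category.assoc, biprod.lift_snd, zero_comp, γQ] at h3
        exact (Category.comp_id x).symm.trans h3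
      | zero =>
        have h3 : x ≫ I.cocomplex.d 0 1 = 0 := by
          have h3 := congrArg (· ≫ biprod.fst) h2
          simp only [γf, Category.assoc, biprod.lift_fst, zero_comp] at h3
          exact h3
        have hex : (ShortComplex.mk (I.ι.f 0) (I.cocomplex.d 0 1) hι0).Exact :=
          ShortComplex.exact_of_f_is_kernel _ I.isLimitKernelFork
        let y := hex.lift x h3
        have hy : y ≫ I.ι.f 0 = x := hex.lift_f x h3
        have e0 : I.ι.f 0 ≫ β₀.f 0 = ((CochainComplex.single₀ C).map α).f 0 ≫ J₀.ι.f 0 := by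
          rw [← HomologicalComplex.comp_f, hcomm, HomologicalComplex.comp_f]
        haveI : Mono (((CochainComplex.single₀ C).map α).f 0) := by
          rw [CochainComplex.single₀_map_f_zero]; exact ‹Mono α›
        haveI : Mono (((CochainComplex.single₀ C).map α).f 0 ≫ J₀.ι.f 0) := mono_comp _ _
        have : y ≫ ((CochainComplex.single₀ C).map α).f 0 ≫ J₀.ι.f 0 = 0 := by
          rw [← e0, reassoc_of% hy, h1]
        have hy0 : y = 0 := (cancel_mono (((CochainComplex.single₀ C).map α).f 0 ≫ J₀.ι.f 0)).1
          (this.trans zero_comp.symm)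
        rw [← hy, hy0, zero_comp]
    exact HomologicalComplex.mono_of_mono_f β inferInstance
  · apply biprod.hom_ext
    · rw [Category.assoc, biprod.lift_fst, hcomm]
      simp
    · rw [Category.assoc, biprod.lift_snd]
      simp only [Category.assoc, biprod.inl_snd, comp_zero]
      apply HomologicalComplex.from_single_hom_ext
      show I.ι.f 0 ≫ γf 0 = 0
      apply biprod.hom_ext
      · simp only [γf, Category.assoc, biprod.lift_fst, zero_comp]
        exact hι0
      · simp [γf, γQ]
        exact zero_comp.symm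

lemma arrow_eq_zero_of_eq_bot {X : C} {S : Subobject X} (h : S = ⊥) : S.arrow = 0 := by
  subst h
  exact Subobject.bot_arrow

/-- The condition on a step. -/
def StepCond {X Y : C} (R : InjectiveResolution X) (m : Y ⟶ X) (S : Subobject R.cocomplex) : Prop :=
  (∀ j : ℕ, Injective ((S : CochainComplex C ℕ).X j)) ∧
    ∃ ι : (CochainComplex.single₀ C).obj Y ⟶ (S : CochainComplex C ℕ),
      ι ≫ S.arrow = (CochainComplex.single₀ C).map m ≫ R.ι ∧ QuasiIso ι

/-- The conclusion: a filtered injective resolution. -/
def HasFilteredResolution (K : SpSeq.FilObj C) : Prop :=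
    ∃ (X : InjectiveResolution K.obj) (G : ℤ → Subobject X.cocomplex), Antitone G ∧
      (∀ i : ℤ, K.fil i = ⊤ → G i = ⊤) ∧ (∀ i : ℤ, K.fil i = ⊥ → G i = ⊥) ∧
      ∀ i : ℤ, (∀ j : ℕ, Injective ((G i : CochainComplex C ℕ).X j)) ∧
        ∃ ι : (CochainComplex.single₀ C).obj (K.step i) ⟶ (G i : CochainComplex C ℕ),
          ι ≫ (G i).arrow = (CochainComplex.single₀ C).map (K.fil i).arrow ≫ X.ι ∧ QuasiIso ι

lemma injective_X_of_iso {K L : CochainComplex C ℕ} (e : K ≅ L) (j : ℕ) (h : Injective (L.X j)) :
    Injective (K.X j) :=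
  Injective.of_iso ((HomologicalComplex.eval _ _ j).mapIso e).symm h

lemma hasFilteredResolution_of_isZero (K : SpSeq.FilObj C) (h : IsZero K.obj) :
    HasFilteredResolution K := by
  have hz : IsZero (0 : CochainComplex C ℕ) := isZero_zero _
  have hs : IsZero ((CochainComplex.single₀ C).obj K.obj) :=
    (CochainComplex.single₀ C).map_isZero h
  haveI : IsIso (0 : (CochainComplex.single₀ C).obj K.obj ⟶ (0 : CochainComplex C ℕ)) :=
    ⟨0, hs.eq_of_src _ _, hz.eq_of_src _ _⟩
  haveI hinj : ∀ n, Injective ((0 : CochainComplex C ℕ).X n) := fun n =>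
    (Functor.map_isZero (HomologicalComplex.eval C _ n) hz).injective
  refine ⟨{ cocomplex := 0, ι := 0 }, fun _ => ⊥, fun _ _ _ => le_rfl, fun i _ => ?_,
    fun _ _ => rfl, fun i => ?_⟩
  · exact (eq_bot_iff.2 (Subobject.le_mk_of_comm 0 (hz.eq_of_tgt _ _))).symm
  · have hb : IsZero ((⊥ : Subobject (0 : CochainComplex C ℕ)) : CochainComplex C ℕ) :=
      (isZero_zero _).of_iso Subobject.botCoeIsoZero
    refine ⟨fun j => (Functor.map_isZero (HomologicalComplex.eval C _ j) hb).injective, 0,
      hz.eq_of_tgt _ _, ?_⟩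
    have h2 : IsZero (K.step i) := IsZero.of_mono (K.fil i).arrow h
    have h3 : IsZero ((CochainComplex.single₀ C).obj (K.step i)) :=
      (CochainComplex.single₀ C).map_isZero h2
    haveI : IsIso (0 : (CochainComplex.single₀ C).obj (K.step i) ⟶
        ((⊥ : Subobject (0 : CochainComplex C ℕ)) : CochainComplex C ℕ)) :=
      ⟨0, h3.eq_of_src _ _, hb.eq_of_src _ _⟩
    infer_instance

/-- Extending a filtered resolution of a step. -/
lemma hasFilteredResolution_step [EnoughInjectives C] (K : SpSeq.FilObj C) (a : ℤ)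
    (ha : K.fil a = ⊤) (hne : K.fil (a + 1) ≠ ⊤)
    (h : HasFilteredResolution
      { obj := K.step (a + 1)
        fil := fun j => Subobject.mk (K.stepLE (le_max_right j (a + 1)))
        anti := fun i j hij => Subobject.mk_le_mk_of_comm
          (K.stepLE (max_le_max_right (a + 1) hij)) (Subobject.ofLE_comp_ofLE _ _ _ _ _) }) :
    HasFilteredResolution K := by
  classical
  obtain ⟨R, G, hG, -, hbot, hι⟩ := h
  obtain ⟨X, β, hβ, hcomm⟩ := exists_mono_over (K.fil (a + 1)).arrow R
  let G' : ℤ → Subobject X.cocomplex := fun j =>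
    if a + 1 ≤ j then Subobject.mk ((G j).arrow ≫ β) else ⊤
  have hG' : Antitone G' := by
    intro i j hij
    simp only [G']
    split_ifs with h1 h2
    · exact Subobject.mk_le_mk_of_comm ((G j).ofLE (G i) (hG hij)) (by simp)
    · exact le_top
    · omega
    · exact le_rfl
  have htop : ∀ j, j ≤ a → K.fil j = ⊤ := fun j hj => top_le_iff.1 (ha ▸ K.anti hj)
  refine ⟨X, G', hG', fun j hj => ?_, fun j hj => ?_, fun j => ?_⟩
  · have : ¬ a + 1 ≤ j := fun h => hne (top_le_iff.1 (hj ▸ K.anti h))
    simp only [G', if_neg this]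
  · have h1 : a + 1 ≤ j := by
      by_contra hc
      have h0 : (⊤ : Subobject K.obj) = ⊥ := (htop j (by omega)).symm.trans hj
      exact hne (le_antisymm le_top (h0.le.trans bot_le))
    simp only [G', if_pos h1]
    rw [Subobject.mk_eq_bot_iff_zero]
    have : G j = ⊥ := by
      apply hbot
      rw [Subobject.mk_eq_bot_iff_zero, ← cancel_mono (K.fil (a + 1)).arrow, zero_comp,
        Subobject.ofLE_arrow]
      exact arrow_eq_zero_of_eq_bot (by rw [max_eq_left h1, hj])
    rw [show (G j).arrow = 0 by (have := this; revert this; generalize G j = S; rintro rfl; exact Subobject.bot_arrow), zero_comp]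
  · by_cases h1 : a + 1 ≤ j
    · obtain ⟨hinj, ι, hι1, hι2⟩ := hι j
      have hGj : G' j = Subobject.mk ((G j).arrow ≫ β) := if_pos h1
      suffices H : StepCond X (K.fil j).arrow (Subobject.mk ((G j).arrow ≫ β)) from
        (hGj.symm ▸ H : StepCond X (K.fil j).arrow (G' j))
      refine ⟨fun k => injective_X_of_iso (Subobject.underlyingIso _) k (hinj k), ?_⟩
      let e := Subobject.underlyingIso (K.stepLE (le_max_right j (a + 1))) ≪≫
        Subobject.isoOfEq (K.fil (max j (a + 1))) (K.fil j) (by rw [max_eq_left h1])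
      have he : e.inv ≫ (Subobject.mk (K.stepLE (le_max_right j (a + 1)))).arrow ≫
          (K.fil (a + 1)).arrow = (K.fil j).arrow := by
        simp [e, Subobject.isoOfEq]
      haveI := hι2
      refine ⟨(CochainComplex.single₀ C).map e.inv ≫ ι ≫ (Subobject.underlyingIso _).inv, ?_,
        inferInstance⟩
      simp only [Category.assoc, Subobject.underlyingIso_arrow, reassoc_of% hι1, hcomm,
        ← Functor.map_comp_assoc]
      rw [he]
    · have hGj : G' j = ⊤ := if_neg h1
      suffices H : StepCond X (K.fil j).arrow ⊤ from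
        (hGj.symm ▸ H : StepCond X (K.fil j).arrow (G' j))
      refine ⟨fun k => injective_X_of_iso (asIso (⊤ : Subobject X.cocomplex).arrow) k (X.injective k),
        ?_⟩
      haveI : IsIso (K.fil j).arrow := (Subobject.isIso_arrow_iff_eq_top _).2 (htop j (by omega))
      exact ⟨(CochainComplex.single₀ C).map (K.fil j).arrow ≫ X.ι ≫
        inv (⊤ : Subobject X.cocomplex).arrow, by simp, inferInstance⟩

theorem hasFilteredResolution [EnoughInjectives C] (K : SpSeq.FilObj C) (hK : K.IsFinite) :
    HasFilteredResolution K := by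
  suffices H : ∀ (k : ℕ) (K : SpSeq.FilObj C) (a : ℤ), K.fil a = ⊤ → K.fil (a + k) = ⊥ →
      HasFilteredResolution K by
    obtain ⟨⟨a, ha⟩, b, hb⟩ := hK
    refine H (b - a).toNat K a ha (le_bot_iff.1 (hb ▸ K.anti ?_))
    omega
  intro k
  induction k with
  | zero =>
    intro K a ha hb
    refine hasFilteredResolution_of_isZero K ?_
    have h0 : (⊤ : Subobject K.obj) = ⊥ := ha.symm.trans (by simpa using hb)
    rw [Subobject.top_eq_id, Subobject.mk_eq_bot_iff_zero] at h0
    exact (IsZero.iff_id_eq_zero _).2 h0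
  | succ k ih =>
    intro K a ha hb
    by_cases hne : K.fil (a + 1) = ⊤
    · exact ih K (a + 1) hne (by rw [← hb]; congr 1; push_cast; ring)
    refine hasFilteredResolution_step K a ha hne (ih _ (a + 1) ?_ ?_)
    · have hm : max (a + 1) (a + 1) = a + 1 := max_self _
      haveI : IsIso (K.stepLE (le_max_right (a + 1) (a + 1))) :=
        inferInstanceAs (IsIso (Subobject.isoOfEq _ _ (congrArg K.fil hm)).hom)
      exact (Subobject.isIso_iff_mk_eq_top _).1 inferInstance
    · show Subobject.mk _ = ⊥
      rw [Subobject.mk_eq_bot_iff_zero, ← cancel_mono (K.fil (a + 1)).arrow, zero_comp,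
        Subobject.ofLE_arrow]
      refine arrow_eq_zero_of_eq_bot (Eq.trans (congrArg K.fil ?_) hb)
      omega

end HomAlg41
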