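import Mathlib

/-!
# Filtered modules over a complete Noetherian ring
-/

set_option autoImplicit false
universe u

namespace HomAlg41

variable {S : Type u} [CommRing S] {J : Ideal S} {M : Type u} [AddCommGroup M] [Module S M]
  {F : ℤ → Submodule S M}

lemma mem_smul_top_pi {k : ℕ} {I : Ideal S} (a : Fin k → S) :
    a ∈ (I • ⊤ : Submodule S (Fin k → S)) ↔ ∀ i, a i ∈ I := by
  constructor
  · intro ha i
    refine Submodule.smul_induction_on ha (fun r hr v _ => ?_) (fun v w hv hw => ?_)
    · exact Ideal.mul_mem_right _ _ hr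
    · exact add_mem hv hw
  · intro h
    rw [pi_eq_sum_univ' a]
    exact Submodule.sum_mem _ fun i _ => Submodule.smul_mem_smul (h i) trivial

lemma pow_smul_le (hJ : ∀ p : ℤ, J • F p ≤ F (p + 1)) (p : ℤ) (n : ℕ) :
    J ^ n • F p ≤ F (p + n) := by
  induction n with
  | zero => simp
  | succ n ih =>
    rw [pow_succ', Submodule.mul_smul]
    refine (Submodule.smul_mono le_rfl ih).trans ((hJ _).trans_eq ?_)
    exact congrArg F (by push_cast; ring)

lemma iterate_le (hJ : ∀ p : ℤ, J • F p ≤ F (p + 1)) {p₁ : ℤ}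
    (h : ∀ p : ℤ, p₁ ≤ p → F (p + 1) = J • F p ⊔ F (p + 2)) (p : ℤ) (hp : p₁ ≤ p) (n : ℕ) :
    F (p + n) ≤ J ^ n • F p ⊔ F (p + n + 1) := by
  induction n with
  | zero => simp
  | succ n ih =>
    rw [show p + ((n + 1 : ℕ) : ℤ) = p + n + 1 by push_cast; ring]
    refine (h (p + n) (by omega)).le.trans (sup_le ?_ ?_)
    · refine (Submodule.smul_mono le_rfl ih).trans ?_
      rw [Submodule.smul_sup]
      refine sup_le_sup (by rw [pow_succ', Submodule.mul_smul]) ?_
      exact hJ _
    · exact le_sup_of_le_right (le_of_eq (by congr 1; ring))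

/-- Successive approximation. -/
lemma le_of_approx [IsAdicComplete J S] (hF : Antitone F) (hsep : ⨅ p : ℤ, F p = ⊥) (q : ℤ)
    (T : Submodule S M) (hfg : T.FG) (hT : ∀ n : ℕ, F (q + n) ≤ J ^ n • T ⊔ F (q + n + 1))
    (hTF : ∀ n : ℕ, J ^ n • T ≤ F (q + n)) : F q ≤ T := by
  obtain ⟨k, g, hg⟩ := Submodule.fg_iff_exists_fin_generating_family.1 hfg
  let ψ := Fintype.linearCombination S g
  have hψ : LinearMap.range ψ = T := by rw [Fintype.range_linearCombination, hg]
  have hmap : ∀ n : ℕ, Submodule.map ψ (J ^ n • ⊤) = J ^ n • T := by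
    intro n
    rw [Submodule.map_smul'', Submodule.map_top, hψ]
  intro x hx
  have step : ∀ (n : ℕ) (r : M), r ∈ F (q + n) →
      ∃ a : Fin k → S, (∀ i, a i ∈ J ^ n) ∧ r - ψ a ∈ F (q + (n + 1 : ℕ)) := by
    intro n r hr
    obtain ⟨y, hy, z, hz, rfl⟩ := Submodule.mem_sup.1 (hT n hr)
    rw [← hmap] at hy
    obtain ⟨a, ha, rfl⟩ := hy
    refine ⟨a, (mem_smul_top_pi a).1 ha, ?_⟩
    rw [add_sub_cancel_left, show q + ((n + 1 : ℕ) : ℤ) = q + n + 1 by push_cast; ring]
    exact hz
  choose a ha ha' using step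
  let r : ∀ n : ℕ, { r : M // r ∈ F (q + n) } := fun n =>
    Nat.rec (motive := fun n => { r : M // r ∈ F (q + n) }) ⟨x, by simpa using hx⟩
      (fun n r => ⟨r.1 - ψ (a n r.1 r.2), ha' n r.1 r.2⟩) n
  let c : ℕ → Fin k → S := fun n => a n (r n).1 (r n).2
  let s : ℕ → Fin k → S := fun n => ∑ l ∈ Finset.range n, c l
  have hs : ∀ n, x - ψ (s n) = (r n).1 := by
    intro n
    induction n with
    | zero => simp [s]; rfl
    | succ n ih =>
      simp only [s, Finset.sum_range_succ, map_add] at ih ⊢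
      rw [sub_add_eq_sub_sub, ih]
  have hcauchy : ∀ (i : Fin k) {m n : ℕ}, m ≤ n → s n i - s m i ∈ J ^ m := by
    intro i m n hmn
    induction n, hmn using Nat.le_induction with
    | base => simp
    | succ n hn ih =>
      have : s (n + 1) i - s m i = (s n i - s m i) + c n i := by
        simp only [s, Finset.sum_range_succ, Pi.add_apply]; ring
      rw [this]
      exact add_mem ih (Ideal.pow_le_pow_right hn (ha n _ _ i))
  have hlim : ∀ i, ∃ L : S, ∀ n, s n i - L ∈ J ^ n := by
    intro i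
    obtain ⟨L, hL⟩ := IsPrecomplete.prec (I := J) (M := S) inferInstance (f := fun n => s n i)
      (fun {m n} hmn => by
        rw [SModEq.sub_mem, smul_eq_mul, Ideal.mul_top]
        simpa using (Submodule.neg_mem_iff (J ^ m)).2 (hcauchy i hmn))
    refine ⟨L, fun n => ?_⟩
    have := hL n
    rwa [SModEq.sub_mem, smul_eq_mul, Ideal.mul_top] at this
  choose L hL using hlim
  have hmem : ∀ n : ℕ, x - ψ L ∈ F (q + n) := by
    intro n
    rw [show x - ψ L = (r n).1 + ψ (s n - L) by rw [map_sub, ← hs n]; abel]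
    refine add_mem (r n).2 (hTF n ?_)
    rw [← hmap]
    exact ⟨_, (mem_smul_top_pi _).2 (fun i => hL i n), rfl⟩
  have h0 : x - ψ L ∈ ⨅ p : ℤ, F p := by
    rw [Submodule.mem_iInf]
    intro p
    exact hF (show p ≤ q + (p - q).toNat by omega) (hmem _)
  rw [hsep, Submodule.mem_bot, sub_eq_zero] at h0
  rw [h0, ← hψ]
  exact ⟨L, rfl⟩

theorem finite_and_good_iff [IsNoetherianRing S] [IsAdicComplete J S]
    (F : ℤ → Submodule S M) (hF : Antitone F) (hcod : ∃ p₀ : ℤ, F p₀ = ⊤)
    (hJ : ∀ p : ℤ, J • F p ≤ F (p + 1)) (hsep : ⨅ p : ℤ, F p = ⊥) :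
    (Module.Finite S M ∧ ∃ p₁ : ℤ, ∀ p : ℤ, p₁ ≤ p → J • F p = F (p + 1)) ↔
      ((∀ p : ℤ, (Submodule.map (F (p + 1)).mkQ (F p)).FG) ∧
        ∃ p₁ : ℤ, ∀ p : ℤ, p₁ ≤ p → F (p + 1) = J • F p ⊔ F (p + 2)) := by
  constructor
  · rintro ⟨hM, p₁, h⟩
    refine ⟨fun p => ((IsNoetherian.noetherian (F p))).map _, p₁, fun p hp => ?_⟩
    rw [h p hp]
    exact (sup_eq_left.2 (hF (by omega))).symm
  · rintro ⟨hgr, p₁, h⟩
    obtain ⟨p₀, hp₀⟩ := hcod
    have hker : ∀ p, (F p ⊓ LinearMap.ker (F (p + 1)).mkQ) = F (p + 1) := fun p => by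
      rw [Submodule.ker_mkQ]
      exact inf_eq_right.2 (hF (by omega))
    have hfg : ∀ p, p₁ ≤ p → (F p).FG := by
      intro p hp
      obtain ⟨k, g, hg⟩ := Submodule.fg_iff_exists_fin_generating_family.1 (hgr p)
      have hlift : ∀ i, ∃ y ∈ F p, (F (p + 1)).mkQ y = g i := fun i => by
        have : g i ∈ Submodule.map (F (p + 1)).mkQ (F p) := by
          rw [← hg]; exact Submodule.subset_span ⟨i, rfl⟩
        exact this
      choose y hy hy' using hlift
      let T := Submodule.span S (Set.range y)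
      have hTle : T ≤ F p := Submodule.span_le.2 (by rintro _ ⟨i, rfl⟩; exact hy i)
      have h1 : F p ≤ T ⊔ F (p + 1) := by
        intro x hx
        have hx' : (F (p + 1)).mkQ x ∈ Submodule.map (F (p + 1)).mkQ T := by
          rw [Submodule.map_span, ← Set.range_comp,
            show ((F (p + 1)).mkQ ∘ y) = g from funext hy', hg]
          exact ⟨x, hx, rfl⟩
        have := Submodule.mem_comap.2 hx'
        rw [Submodule.comap_map_eq, Submodule.ker_mkQ] at this
        exact this
      have hTfg : T.FG := Submodule.fg_span (Set.finite_range y)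
      have heq : F p = T := by
        refine le_antisymm (le_of_approx (J := J) hF hsep p T hTfg (fun n => ?_) (fun n => ?_)) hTle
        · refine (iterate_le hJ h p hp n).trans (sup_le ?_ le_sup_right)
          refine (Submodule.smul_mono le_rfl h1).trans ?_
          rw [Submodule.smul_sup]
          refine sup_le_sup le_rfl ((pow_smul_le hJ (p + 1) n).trans_eq ?_)
          congr 1; ring
        · exact (Submodule.smul_mono le_rfl hTle).trans (pow_smul_le hJ p n)
      rw [heq]
      exact hTfg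
    refine ⟨?_, p₁, fun p hp => le_antisymm (hJ p) ?_⟩
    · have : ∀ n : ℕ, (F (p₁ - n)).FG := by
        intro n
        induction n with
        | zero => simpa using hfg p₁ le_rfl
        | succ n ih =>
          refine Submodule.fg_of_fg_map_of_fg_inf_ker (F (p₁ - (n + 1 : ℕ) + 1)).mkQ (hgr _) ?_
          rw [hker, show p₁ - ((n + 1 : ℕ) : ℤ) + 1 = p₁ - n by push_cast; ring]
          exact ih
      refine ⟨?_⟩
      rcases le_total p₀ p₁ with hle | hle
      · have := this (p₁ - p₀).toNat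
        rwa [show p₁ - ((p₁ - p₀).toNat : ℤ) = p₀ by omega, hp₀] at this
      · have := hfg p₀ hle
        rwa [hp₀] at this
    · refine le_of_approx (J := J) hF hsep (p + 1) (J • F p)
        (Submodule.FG.smul (IsNoetherian.noetherian J) (hfg p hp)) (fun n => ?_) (fun n => ?_)
      · have h2 := iterate_le hJ h p hp (n + 1)
        rw [pow_succ, Submodule.mul_smul, show p + ((n + 1 : ℕ) : ℤ) = p + 1 + n by push_cast; ring]
          at h2
        exact h2
      · exact (Submodule.smul_mono le_rfl (hJ p)).trans (pow_smul_le hJ (p + 1) n)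

end HomAlg41
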