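import Mathlib
import Groth.Agent.HomAlg41.SplitResolution
set_option linter.style.haveILetI false

/-!
# Injective objects of `CochainComplex C ℕ`
-/

set_option autoImplicit false
universe v u

open CategoryTheory CategoryTheory.Limits

namespace HomAlg41

variable {C : Type u} [Category.{v} C] [Abelian C]

/-- A complex of injectives, acyclic in positive degrees with split cycles, is injective. -/
theorem injective_of_split (Q : CochainComplex C ℕ) (hinj : ∀ i : ℕ, Injective (Q.X i))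
    (hac : ∀ i : ℕ, IsZero (Q.homology (i + 1))) (hsplit : ∀ i : ℕ, IsSplitMono (Q.iCycles i)) :
    Injective Q := by
  refine ⟨fun {A B} g f _ => ?_⟩
  let r : ∀ i, Q.X i ⟶ Q.cycles i := fun i =>
    haveI := hsplit i; retraction (Q.iCycles i)
  have hr : ∀ i, Q.iCycles i ≫ r i = 𝟙 _ := fun i =>
    haveI := hsplit i; IsSplitMono.id (Q.iCycles i)
  have hepi : ∀ i, Epi (Q.toCycles i (i + 1)) := fun i =>
    (ShortComplex.exact_of_g_is_cokernel (ShortComplex.mk (Q.toCycles i (i + 1))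
      (Q.homologyπ (i + 1)) (Q.toCycles_comp_homologyπ _ _))
      (Q.homologyIsCokernel i (i + 1) (by simp))).epi_f ((hac i).eq_of_tgt _ _)
  have h0 : ∀ i, Q.iCycles i ≫ Q.toCycles i (i + 1) = 0 := fun i => by
    rw [← cancel_mono (Q.iCycles (i + 1))]; simp
  have hex : ∀ i, (ShortComplex.mk (Q.iCycles i) (Q.toCycles i (i + 1)) (h0 i)).Exact := fun i => by
    rw [ShortComplex.exact_iff_exact_up_to_refinements]
    intro T x hx
    dsimp at x hx
    have hx' : x ≫ Q.d i (i + 1) = 0 := by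
      rw [← Q.toCycles_i i (i + 1), ← Category.assoc, hx, zero_comp]
    exact ⟨T, 𝟙 T, inferInstance, Q.liftCycles x (i + 1) (by simp) hx', by simp⟩
  let S : ∀ i, (ShortComplex.mk (Q.iCycles i) (Q.toCycles i (i + 1)) (h0 i)).Splitting := fun i =>
    haveI := hepi i
    ShortComplex.Splitting.ofExactOfRetraction _ (hex i) (r i) (hr i) inferInstance
  let s : ∀ i, Q.cycles (i + 1) ⟶ Q.X i := fun i => (S i).s
  have hid : ∀ i, r i ≫ Q.iCycles i + Q.toCycles i (i + 1) ≫ s i = 𝟙 _ := fun i => (S i).id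
  have hsd : ∀ i, s i ≫ Q.d i (i + 1) = Q.iCycles (i + 1) := fun i => by
    have h := (S i).s_g
    dsimp at h
    rw [← Q.toCycles_i i (i + 1), ← Category.assoc]
    exact (congrArg (· ≫ Q.iCycles (i + 1)) h).trans (Category.id_comp _)
  have hZ : ∀ i, Injective (Q.cycles i) := fun i =>
    haveI := hinj i
    ⟨fun {X Y} a b _ => ⟨Injective.factorThru (a ≫ Q.iCycles i) b ≫ r i, by
      rw [Injective.comp_factorThru_assoc, Category.assoc, hr, Category.comp_id]⟩⟩
  let ψ : ∀ i, B.X i ⟶ Q.cycles i := fun i =>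
    haveI := hZ i; Injective.factorThru (g.f i ≫ r i) (f.f i)
  have hψ : ∀ i, f.f i ≫ ψ i = g.f i ≫ r i := fun i =>
    haveI := hZ i; Injective.comp_factorThru _ _
  refine ⟨{ f := fun i => ψ i ≫ Q.iCycles i + B.d i (i + 1) ≫ ψ (i + 1) ≫ s i, comm' := ?_ }, ?_⟩
  · rintro i _ rfl
    simp only [Preadditive.add_comp, Preadditive.comp_add, Category.assoc,
      HomologicalComplex.iCycles_d, comp_zero, zero_add, hsd,
      HomologicalComplex.d_comp_d_assoc, zero_comp, add_zero]
  · ext i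
    have e1 : g.f i ≫ Q.toCycles i (i + 1) = A.d i (i + 1) ≫ g.f (i + 1) ≫ r (i + 1) := by
      rw [← HomologicalComplex.Hom.comm_assoc g, ← Q.toCycles_i i (i + 1), Category.assoc, hr,
        Category.comp_id]
    simp only [HomologicalComplex.comp_f, Preadditive.comp_add]
    rw [reassoc_of% (hψ i), ← Category.assoc (f.f i), f.comm, Category.assoc,
      reassoc_of% (hψ (i + 1)), ← reassoc_of% e1, ← Preadditive.comp_add, hid, Category.comp_id]

namespace Disk

variable (E : ℕ → C)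

/-- The differential of a sum of disks. -/
noncomputable def δ (i : ℕ) : E (i + 1) ⊞ E i ⟶ E (i + 1 + 1) ⊞ E (i + 1) :=
  biprod.lift 0 biprod.fst

lemma δ_sq (i : ℕ) : δ E i ≫ δ E (i + 1) = 0 := by
  apply biprod.hom_ext <;> simp [δ]

/-- The sum of the disks on `E`, with `E 0` left in degree zero. -/
noncomputable def cplx : CochainComplex C ℕ :=
  CochainComplex.of (fun i => E (i + 1) ⊞ E i) (δ E) (δ_sq E)

lemma cplx_d (i : ℕ) : (cplx E).d i (i + 1) = δ E i :=
  CochainComplex.of_d (fun i => E (i + 1) ⊞ E i) (δ E) i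

end Disk

/-- An embedding into a split acyclic complex of injectives. -/
theorem exists_mono_into_split [EnoughInjectives C] (A : CochainComplex C ℕ) :
    ∃ (Q : CochainComplex C ℕ) (f : A ⟶ Q), Mono f ∧ (∀ i : ℕ, Injective (Q.X i)) ∧
      (∀ i : ℕ, IsZero (Q.homology (i + 1))) ∧ ∀ i : ℕ, IsSplitMono (Q.iCycles i) := by
  let E : ℕ → C := fun i => Injective.under (A.X i)
  let φ : ∀ i, A.X i ⟶ E i := fun i => Injective.ι (A.X i)
  let fi : ∀ i, A.X i ⟶ E (i + 1) ⊞ E i := fun i =>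
    biprod.lift (A.d i (i + 1) ≫ φ (i + 1)) (φ i)
  have hcomm : ∀ i, fi i ≫ Disk.δ E i = A.d i (i + 1) ≫ fi (i + 1) := fun i => by
    apply biprod.hom_ext <;> simp [fi, Disk.δ]
  let f : A ⟶ Disk.cplx E :=
    { f := fi
      comm' := by
        rintro i _ rfl
        rw [Disk.cplx_d]
        exact hcomm i }
  haveI : ∀ i, Mono (f.f i) := fun i => by
    haveI : Mono (φ i) := inferInstanceAs (Mono (Injective.ι (A.X i)))
    show Mono (fi i)
    haveI : Mono (fi i ≫ biprod.snd) := by simp only [fi, biprod.lift_snd]; infer_instance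
    exact mono_of_mono (fi i) biprod.snd
  have hker : ∀ (i : ℕ) {T : C} (x : T ⟶ E (i + 1) ⊞ E i), x ≫ Disk.δ E i = 0 →
      x ≫ biprod.snd ≫ biprod.inr = x := by
    intro i T x hx
    have h1 : x ≫ biprod.fst = 0 := by
      have := congrArg (· ≫ biprod.snd) hx
      simpa [Disk.δ] using this
    apply biprod.hom_ext <;> simp [h1]
  refine ⟨Disk.cplx E, f, HomologicalComplex.mono_of_mono_f f inferInstance, fun i => ?_,
    fun i => ?_, fun i => ?_⟩
  · show Injective (E (i + 1) ⊞ E i)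
    infer_instance
  · rw [← HomologicalComplex.exactAt_iff_isZero_homology,
      HomologicalComplex.exactAt_iff' _ i (i + 1) (i + 1 + 1) (by simp) (by simp),
      ShortComplex.exact_iff_exact_up_to_refinements]
    intro T (x : T ⟶ E (i + 1 + 1) ⊞ E (i + 1))
      (hx : x ≫ (Disk.cplx E).d (i + 1) (i + 1 + 1) = 0)
    rw [Disk.cplx_d] at hx
    refine ⟨T, 𝟙 T, inferInstance, (x ≫ biprod.snd ≫ biprod.inl : T ⟶ E (i + 1) ⊞ E i), ?_⟩
    show 𝟙 T ≫ x = _ ≫ (Disk.cplx E).d i (i + 1)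
    rw [Disk.cplx_d]
    have e : x ≫ biprod.snd ≫ biprod.inr =
        (x ≫ biprod.snd ≫ biprod.inl : T ⟶ E (i + 1) ⊞ E i) ≫ Disk.δ E i := by
      apply biprod.hom_ext <;> simp [Disk.δ]
    exact (Category.id_comp x).trans ((hker _ x hx).symm.trans e)
  · have hd : (biprod.inr : E i ⟶ E (i + 1) ⊞ E i) ≫ Disk.δ E i = 0 := by
      apply biprod.hom_ext <;> simp [Disk.δ]
    let r : E (i + 1) ⊞ E i ⟶ (Disk.cplx E).cycles i :=
      biprod.snd ≫ (Disk.cplx E).liftCycles (A := E i) (biprod.inr : E i ⟶ E (i + 1) ⊞ E i)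
        (i + 1) (by simp) (by rw [Disk.cplx_d]; exact hd)
    refine ⟨⟨⟨r, ?_⟩⟩⟩
    have hx : (Disk.cplx E).iCycles i ≫ (Disk.cplx E).d i (i + 1) = 0 :=
      (Disk.cplx E).iCycles_d i (i + 1)
    rw [Disk.cplx_d] at hx
    have h := hker i _ hx
    rw [← cancel_mono ((Disk.cplx E).iCycles i), Category.id_comp, Category.assoc]
    have hl : r ≫ (Disk.cplx E).iCycles i =
        (biprod.snd ≫ biprod.inr : E (i + 1) ⊞ E i ⟶ E (i + 1) ⊞ E i) :=
      (Category.assoc _ _ _).trans (congrArg ((biprod.snd : E (i + 1) ⊞ E i ⟶ E i) ≫ ·)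
        ((Disk.cplx E).liftCycles_i _ _ _ _))
    exact (congrArg ((Disk.cplx E).iCycles i ≫ ·) hl).trans h

end HomAlg41
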