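import Mathlib
set_option linter.style.haveILetI false

/-!
# The homology of a composite three-term complex

For short exact rows `A₁ → A₂ → A₃`, `A₂ → B₂ → C₂`, `C₁ → C₂ → C₃`, the homology of
`A₁ → B₂ → C₃` is an extension of `C₁` by `A₃`, and sections of it are the subobjects
completing the data to a nine diagram.
-/

set_option autoImplicit false
universe v u

open CategoryTheory CategoryTheory.Limits

namespace HomAlg41

variable {C : Type u} [Category.{v} C] [Abelian C]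

/-- An element of `X` killed by `π` comes, up to refinement, from the boundaries. -/
lemma exists_toCycles_of_homologyπ_eq_zero (S : ShortComplex C) {A : C} (z : A ⟶ S.cycles)
    (hz : z ≫ S.homologyπ = 0) :
    ∃ (A' : C) (π : A' ⟶ A) (_ : Epi π) (x : A' ⟶ S.X₁), π ≫ z = x ≫ S.toCycles :=
  (ShortComplex.exact_of_g_is_cokernel (ShortComplex.mk S.toCycles S.homologyπ S.toCycles_comp_homologyπ)
    S.homologyIsCokernel).exact_up_to_refinements z hz

variable {A₁ A₂ A₃ B₂ C₁ C₂ C₃ : C}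

/-- The data of the three short exact sequences and the two induced maps. -/
structure NineData (A₁ A₂ A₃ B₂ C₁ C₂ C₃ : C) where
  i₁ : A₁ ⟶ A₂
  p₁ : A₂ ⟶ A₃
  wA : i₁ ≫ p₁ = 0
  hA : (ShortComplex.mk i₁ p₁ wA).ShortExact
  i₂ : A₂ ⟶ B₂
  π₂ : B₂ ⟶ C₂
  wB : i₂ ≫ π₂ = 0
  hB : (ShortComplex.mk i₂ π₂ wB).ShortExact
  j : C₁ ⟶ C₂
  q : C₂ ⟶ C₃
  wC : j ≫ q = 0
  hC : (ShortComplex.mk j q wC).ShortExact
  w : (i₁ ≫ i₂) ≫ (π₂ ≫ q) = 0
  h₂ : i₂ ≫ (π₂ ≫ q) = 0
  h₃ : (i₁ ≫ i₂) ≫ π₂ = 0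
  f : A₃ ⟶ (ShortComplex.mk (i₁ ≫ i₂) (π₂ ≫ q) w).homology
  g : (ShortComplex.mk (i₁ ≫ i₂) (π₂ ≫ q) w).homology ⟶ C₁
  hf : p₁ ≫ f = (ShortComplex.mk (i₁ ≫ i₂) (π₂ ≫ q) w).liftCycles i₂ h₂ ≫
    (ShortComplex.mk (i₁ ≫ i₂) (π₂ ≫ q) w).homologyπ
  hg : g ≫ j = (ShortComplex.mk (i₁ ≫ i₂) (π₂ ≫ q) w).homologyι ≫
    (ShortComplex.mk (i₁ ≫ i₂) (π₂ ≫ q) w).descOpcycles π₂ h₃

namespace NineData

variable (D : NineData A₁ A₂ A₃ B₂ C₁ C₂ C₃)

/-- The complex `A₁ → B₂ → C₃`. -/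
noncomputable abbrev sc : ShortComplex C := ShortComplex.mk (D.i₁ ≫ D.i₂) (D.π₂ ≫ D.q) D.w

lemma mono_i₁ : Mono D.i₁ := D.hA.mono_f
lemma epi_p₁ : Epi D.p₁ := D.hA.epi_g
lemma mono_i₂ : Mono D.i₂ := D.hB.mono_f
lemma epi_π₂ : Epi D.π₂ := D.hB.epi_g
lemma mono_j : Mono D.j := D.hC.mono_f
lemma epi_q : Epi D.q := D.hC.epi_g

lemma hf' : D.p₁ ≫ D.f = D.sc.liftCycles D.i₂ D.h₂ ≫ D.sc.homologyπ := D.hf

lemma π_g_j : D.sc.homologyπ ≫ D.g ≫ D.j = D.sc.iCycles ≫ D.π₂ := by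
  rw [D.hg, D.sc.homology_π_ι_assoc]
  simp

lemma fg_zero : D.f ≫ D.g = 0 := by
  haveI := D.epi_p₁
  haveI := D.mono_j
  rw [← cancel_epi D.p₁, ← cancel_mono D.j, Category.assoc, Category.assoc,
    ← Category.assoc D.p₁, D.hf', Category.assoc, D.π_g_j]
  simp [D.wB]

lemma mono_f : Mono D.f := by
  haveI := D.epi_p₁
  haveI := D.mono_i₂
  apply Preadditive.mono_of_cancel_zero
  intro A a ha
  obtain ⟨A₁', π, _, a₂, ha₂⟩ := surjective_up_to_refinements_of_epi D.p₁ a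
  have h0 : (a₂ ≫ D.sc.liftCycles D.i₂ D.h₂) ≫ D.sc.homologyπ = 0 := by
    rw [Category.assoc, ← D.hf', ← Category.assoc, ← ha₂, Category.assoc, ha, comp_zero]
  obtain ⟨A₂', π', _, x, hx⟩ := exists_toCycles_of_homologyπ_eq_zero _ _ h0
  have h1 : π' ≫ a₂ ≫ D.i₂ = x ≫ D.i₁ ≫ D.i₂ := by
    have := congrArg (· ≫ D.sc.iCycles) hx
    simpa using this
  have h2 : π' ≫ a₂ = x ≫ D.i₁ := by
    rw [← cancel_mono D.i₂]
    simpa using h1
  rw [← cancel_epi π, ← cancel_epi π']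
  rw [ha₂, ← Category.assoc π', h2]
  simp [D.wA]

lemma epi_g : Epi D.g := by
  haveI := D.epi_π₂
  haveI := D.mono_j
  rw [epi_iff_surjective_up_to_refinements]
  intro A c
  obtain ⟨A', π, hπ, b, hb⟩ := surjective_up_to_refinements_of_epi D.π₂ (c ≫ D.j)
  have hb0 : b ≫ D.π₂ ≫ D.q = 0 := by
    rw [← Category.assoc, ← hb]
    simp [D.wC]
  refine ⟨A', π, hπ, D.sc.liftCycles b hb0 ≫ D.sc.homologyπ, ?_⟩
  rw [← cancel_mono D.j, Category.assoc, Category.assoc, hb, Category.assoc, D.π_g_j]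
  simp

lemma exact_fg : (ShortComplex.mk D.f D.g D.fg_zero).Exact := by
  haveI := D.mono_j
  rw [ShortComplex.exact_iff_exact_up_to_refinements]
  intro A h hh
  dsimp at h hh ⊢
  obtain ⟨A', π, _, z, hz⟩ := surjective_up_to_refinements_of_epi D.sc.homologyπ h
  have h0 : (z ≫ D.sc.iCycles) ≫ D.π₂ = 0 := by
    rw [Category.assoc, ← D.π_g_j, ← Category.assoc, ← hz]
    simp [reassoc_of% hh]
  obtain ⟨A'', π', _, a, ha⟩ := D.hB.exact.exact_up_to_refinements _ h0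
  dsimp at a ha
  refine ⟨A'', π' ≫ π, epi_comp _ _, a ≫ D.p₁, ?_⟩
  have hz' : π' ≫ z = a ≫ D.sc.liftCycles D.i₂ D.h₂ := by
    rw [← cancel_mono D.sc.iCycles]
    simpa using ha
  rw [Category.assoc, Category.assoc, hz, ← Category.assoc π', hz', D.hf']
  simp

lemma shortExact_fg : (ShortComplex.mk D.f D.g D.fg_zero).ShortExact :=
  ShortComplex.ShortExact.mk' D.exact_fg D.mono_f D.epi_g

/-- The subobject of `B₂` attached to a map into the homology. -/
noncomputable def sub (s : C₁ ⟶ D.sc.homology) : Subobject B₂ :=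
  (Subobject.map D.sc.iCycles).obj
    ((Subobject.pullback D.sc.homologyπ).obj (imageSubobject s))

lemma mono_of_section {s : C₁ ⟶ D.sc.homology} (hs : s ≫ D.g = 𝟙 C₁) : Mono s := by
  have : Mono (s ≫ D.g) := by rw [hs]; infer_instance
  exact mono_of_mono s D.g

lemma sub_eq (s : C₁ ⟶ D.sc.homology) [Mono s] :
    D.sub s = Subobject.mk (pullback.snd s D.sc.homologyπ ≫ D.sc.iCycles) := by
  rw [sub, imageSubobject_mono, ← Subobject.map_mk]
  congr 1

/-- If `B₁` is cut out by the section `s`, it completes the nine diagram. -/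
lemma completes {P : C} (c : P ⟶ C₁) (z : P ⟶ D.sc.cycles) (s : C₁ ⟶ D.sc.homology)
    (hP : IsPullback c z s D.sc.homologyπ) (hs : s ≫ D.g = 𝟙 C₁) (b : P ⟶ B₂)
    (hb : z ≫ D.sc.iCycles = b) :
    ∃ (a : A₁ ⟶ P) (wac : a ≫ c = 0)
         (a' : A₃ ⟶ cokernel b) (c' : cokernel b ⟶ C₃) (wac' : a' ≫ c' = 0),
         a ≫ b = D.i₁ ≫ D.i₂ ∧ c ≫ D.j = b ≫ D.π₂ ∧ (ShortComplex.mk a c wac).ShortExact ∧
         D.p₁ ≫ a' = D.i₂ ≫ cokernel.π b ∧ cokernel.π b ≫ c' = D.π₂ ≫ D.q ∧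
         (ShortComplex.mk a' c' wac').ShortExact := by
  subst hb
  haveI := D.mono_i₁
  haveI := D.mono_i₂
  haveI := D.mono_j
  haveI := D.epi_p₁
  haveI := D.epi_π₂
  haveI := D.epi_q
  haveI := D.mono_of_section hs
  have hz : Mono z := hP.mono_snd_of_mono
  have hcj : c ≫ D.j = (z ≫ D.sc.iCycles) ≫ D.π₂ := by
    have := congrArg (· ≫ D.g ≫ D.j) hP.w
    simp only [Category.assoc, reassoc_of% hs] at this
    rw [this, D.π_g_j, Category.assoc]
  let a : A₁ ⟶ P := hP.lift 0 D.sc.toCycles (by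
    rw [zero_comp, D.sc.toCycles_comp_homologyπ])
  have hac : a ≫ c = 0 := hP.lift_fst _ _ _
  have haz : a ≫ z = D.sc.toCycles := hP.lift_snd _ _ _
  have hab : a ≫ (z ≫ D.sc.iCycles) = D.i₁ ≫ D.i₂ := by
    rw [← Category.assoc, haz]
    simp
  have hbq : (z ≫ D.sc.iCycles) ≫ D.π₂ ≫ D.q = 0 := by
    rw [Category.assoc]
    exact (congrArg (z ≫ ·) D.sc.iCycles_g).trans comp_zero
  have hi : D.i₁ ≫ D.i₂ ≫ cokernel.π (z ≫ D.sc.iCycles) = 0 := by
    rw [← Category.assoc, ← hab]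
    simp
  let a' : A₃ ⟶ cokernel (z ≫ D.sc.iCycles) :=
    D.hA.gIsCokernel.desc (CokernelCofork.ofπ (D.i₂ ≫ cokernel.π _) hi)
  have ha' : D.p₁ ≫ a' = D.i₂ ≫ cokernel.π (z ≫ D.sc.iCycles) :=
    D.hA.gIsCokernel.fac _ WalkingParallelPair.one
  let c' : cokernel (z ≫ D.sc.iCycles) ⟶ C₃ := cokernel.desc _ (D.π₂ ≫ D.q) hbq
  have hc' : cokernel.π (z ≫ D.sc.iCycles) ≫ c' = D.π₂ ≫ D.q := cokernel.π_desc _ _ _
  have wac' : a' ≫ c' = 0 := by
    rw [← cancel_epi D.p₁, reassoc_of% ha', hc', D.h₂, comp_zero]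
  haveI : Mono a := by
    haveI : Mono (D.i₁ ≫ D.i₂) := mono_comp _ _
    haveI : Mono (a ≫ (z ≫ D.sc.iCycles)) := by rw [hab]; infer_instance
    exact mono_of_mono a (z ≫ D.sc.iCycles)
  have hepi : Epi c := by
    rw [epi_iff_surjective_up_to_refinements]
    intro A y
    obtain ⟨A', π, hπ, z', hz'⟩ := surjective_up_to_refinements_of_epi D.sc.homologyπ (y ≫ s)
    exact ⟨A', π, hπ, hP.lift (π ≫ y) z' (by rw [Category.assoc, hz']),
      (hP.lift_fst _ _ _).symm⟩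
  have hexac : (ShortComplex.mk a c hac).Exact := by
    rw [ShortComplex.exact_iff_exact_up_to_refinements]
    intro A x hx
    dsimp at x hx ⊢
    have h0 : (x ≫ z) ≫ D.sc.homologyπ = 0 := by
      rw [Category.assoc, ← hP.w, reassoc_of% hx, zero_comp]
    obtain ⟨A', π, hπ, u, hu⟩ := exists_toCycles_of_homologyπ_eq_zero _ _ h0
    refine ⟨A', π, hπ, u, ?_⟩
    rw [← cancel_mono z, Category.assoc, Category.assoc, haz, hu]
  haveI : Mono (z ≫ D.sc.iCycles) := mono_comp _ _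
  have hcok : (ShortComplex.mk (z ≫ D.sc.iCycles) (cokernel.π (z ≫ D.sc.iCycles))
      (cokernel.condition _)).Exact :=
    ShortComplex.exact_of_g_is_cokernel _ (cokernelIsCokernel _)
  haveI : Mono a' := by
    apply Preadditive.mono_of_cancel_zero
    intro A t ht
    obtain ⟨A', π, _, a₂, ha₂⟩ := surjective_up_to_refinements_of_epi D.p₁ t
    have h0 : (a₂ ≫ D.i₂) ≫ cokernel.π (z ≫ D.sc.iCycles) = 0 := by
      rw [Category.assoc, ← ha', ← Category.assoc, ← ha₂, Category.assoc, ht, comp_zero]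
    obtain ⟨A'', π', _, x, hx⟩ := hcok.exact_up_to_refinements _ h0
    dsimp at x hx
    have hxc : x ≫ c = 0 := by
      rw [← cancel_mono D.j, Category.assoc, hcj, ← Category.assoc x, ← hx, zero_comp]
      simp [D.wB]
    obtain ⟨A''', π'', _, u, hu⟩ := hexac.exact_up_to_refinements x hxc
    dsimp at u hu
    have h1 : π'' ≫ π' ≫ a₂ = u ≫ D.i₁ := by
      rw [← cancel_mono D.i₂]
      simp only [Category.assoc]
      rw [hx, ← Category.assoc π'', hu, Category.assoc, hab]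
    rw [← cancel_epi π, ← cancel_epi π', ← cancel_epi π'', ha₂]
    rw [reassoc_of% h1, D.wA]
    simp
  haveI : Epi c' := by
    haveI : Epi (cokernel.π (z ≫ D.sc.iCycles) ≫ c') := by rw [hc']; exact epi_comp _ _
    exact epi_of_epi (cokernel.π (z ≫ D.sc.iCycles)) c'
  have hexac' : (ShortComplex.mk a' c' wac').Exact := by
    rw [ShortComplex.exact_iff_exact_up_to_refinements]
    intro A y hy
    dsimp at y hy ⊢
    obtain ⟨A', π, _, b, hb⟩ := surjective_up_to_refinements_of_epi (cokernel.π (z ≫ D.sc.iCycles)) y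
    have hb0 : b ≫ D.π₂ ≫ D.q = 0 := by
      rw [← hc', ← reassoc_of% hb, hy, comp_zero]
    let zb := D.sc.liftCycles b hb0
    let y₁ := zb ≫ D.sc.homologyπ ≫ D.g
    have h0 : (zb ≫ D.sc.homologyπ - y₁ ≫ s) ≫ D.g = 0 := by
      simp [y₁, hs]
    obtain ⟨A'', π', _, t, ht⟩ := D.exact_fg.exact_up_to_refinements _ h0
    dsimp at t ht
    obtain ⟨A''', π'', _, a₂, ha₂⟩ := surjective_up_to_refinements_of_epi D.p₁ t
    let zb' := π'' ≫ π' ≫ zb
    have key : (π'' ≫ π' ≫ y₁) ≫ s =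
        (zb' - a₂ ≫ D.sc.liftCycles D.i₂ D.h₂) ≫ D.sc.homologyπ := by
      have := congrArg (π'' ≫ ·) ht
      simp only [reassoc_of% ha₂, D.hf', Preadditive.comp_sub] at this
      simp only [Preadditive.sub_comp, Category.assoc, zb', ← this]
      abel
    let x := hP.lift _ _ key
    have hx : x ≫ z ≫ D.sc.iCycles = π'' ≫ π' ≫ b - a₂ ≫ D.i₂ := by
      rw [hP.lift_snd_assoc]
      simp [zb', zb]
    refine ⟨A''', π'' ≫ π' ≫ π, inferInstance, a₂ ≫ D.p₁, ?_⟩
    rw [Category.assoc, Category.assoc, Category.assoc, ha', hb]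
    have := congrArg (· ≫ cokernel.π (z ≫ D.sc.iCycles)) hx
    simp only [Category.assoc, Preadditive.sub_comp] at this
    rw [show x ≫ z ≫ D.sc.iCycles ≫ cokernel.π (z ≫ D.sc.iCycles) = 0 from by
      rw [← Category.assoc z, cokernel.condition, comp_zero]] at this
    exact sub_eq_zero.1 this.symm
  exact ⟨a, hac, a', c', wac', hab, hcj, ShortComplex.ShortExact.mk' hexac inferInstance hepi,
    ha', hc', ShortComplex.ShortExact.mk' hexac' inferInstance inferInstance⟩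

/-- A completed nine diagram comes from a section. -/
lemma exists_section {P : C} (b : P ⟶ B₂) [Mono b] (a : A₁ ⟶ P) (c : P ⟶ C₁) (wac : a ≫ c = 0)
    (hab : a ≫ b = D.i₁ ≫ D.i₂) (hcj : c ≫ D.j = b ≫ D.π₂)
    (hac : (ShortComplex.mk a c wac).ShortExact) :
    ∃ s : C₁ ⟶ D.sc.homology, s ≫ D.g = 𝟙 C₁ ∧ Subobject.mk b = D.sub s := by
  haveI : Epi c := hac.epi_g
  haveI := D.mono_j
  have hbq : b ≫ D.π₂ ≫ D.q = 0 := by
    rw [← Category.assoc, ← hcj, Category.assoc, D.wC, comp_zero]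
  let z : P ⟶ D.sc.cycles := D.sc.liftCycles b hbq
  have hzb : z ≫ D.sc.iCycles = b := D.sc.liftCycles_i _ _
  haveI : Mono z := by
    haveI : Mono (z ≫ D.sc.iCycles) := by rw [hzb]; infer_instance
    exact mono_of_mono z D.sc.iCycles
  have haz : a ≫ z = D.sc.toCycles := by
    rw [← cancel_mono D.sc.iCycles, Category.assoc, hzb, hab]
    simp
  have ha0 : a ≫ z ≫ D.sc.homologyπ = 0 := by
    rw [← Category.assoc, haz, D.sc.toCycles_comp_homologyπ]
  let s : C₁ ⟶ D.sc.homology := hac.gIsCokernel.desc (CokernelCofork.ofπ (z ≫ D.sc.homologyπ) ha0)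
  have hcs : c ≫ s = z ≫ D.sc.homologyπ := hac.gIsCokernel.fac _ WalkingParallelPair.one
  have hsg : s ≫ D.g = 𝟙 C₁ := by
    rw [← cancel_epi c, ← cancel_mono D.j, reassoc_of% hcs, Category.comp_id]
    simp only [Category.assoc, D.π_g_j]
    rw [← Category.assoc, hzb, hcj]
  haveI := D.mono_of_section hsg
  refine ⟨s, hsg, ?_⟩
  rw [D.sub_eq s]
  let P' := pullback s D.sc.homologyπ
  let l : P ⟶ P' := pullback.lift c z hcs
  -- the second projection factors through `z`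
  have h0 : pullback.snd s D.sc.homologyπ ≫ cokernel.π z = 0 := by
    obtain ⟨A', π, _, x, hx⟩ := surjective_up_to_refinements_of_epi c (pullback.fst s D.sc.homologyπ)
    have h1 : (π ≫ pullback.snd s D.sc.homologyπ - x ≫ z) ≫ D.sc.homologyπ = 0 := by
      simp only [Preadditive.sub_comp, Category.assoc, ← pullback.condition, ← hcs,
        reassoc_of% hx, sub_self]
    obtain ⟨A'', π', _, u, hu⟩ := exists_toCycles_of_homologyπ_eq_zero _ _ h1
    rw [← haz] at hu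
    rw [← cancel_epi π, ← cancel_epi π']
    have h2 := congrArg (· ≫ cokernel.π z) hu
    simp only [Preadditive.comp_sub, Preadditive.sub_comp, Category.assoc, cokernel.condition,
      comp_zero, sub_zero] at h2
    simp [h2]
  let m : P' ⟶ P := Abelian.monoLift z (pullback.snd s D.sc.homologyπ) h0
  have hm : m ≫ z = pullback.snd s D.sc.homologyπ := Abelian.monoLift_comp _ _ _
  apply le_antisymm
  · exact Subobject.mk_le_mk_of_comm l ((pullback.lift_snd_assoc c z hcs D.sc.iCycles).trans hzb)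
  · exact Subobject.mk_le_mk_of_comm m (by rw [← hzb, reassoc_of% hm])

lemma sub_injective {s s' : C₁ ⟶ D.sc.homology} (hs : s ≫ D.g = 𝟙 C₁) (hs' : s' ≫ D.g = 𝟙 C₁)
    (h : D.sub s = D.sub s') : s = s' := by
  haveI := D.mono_of_section hs
  haveI := D.mono_of_section hs'
  rw [D.sub_eq, D.sub_eq] at h
  let e := Subobject.isoOfMkEqMk _ _ h
  have he : e.hom ≫ pullback.snd s' D.sc.homologyπ = pullback.snd s D.sc.homologyπ := by
    rw [← cancel_mono D.sc.iCycles, Category.assoc]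
    exact Subobject.ofMkLEMk_comp _
  have h1 : pullback.fst s D.sc.homologyπ ≫ s = (e.hom ≫ pullback.fst s' D.sc.homologyπ) ≫ s' := by
    rw [Category.assoc, pullback.condition, pullback.condition, ← Category.assoc, he]
  have h2 : pullback.fst s D.sc.homologyπ = e.hom ≫ pullback.fst s' D.sc.homologyπ := by
    have := congrArg (· ≫ D.g) h1
    simpa [hs, hs'] using this
  rw [← h2] at h1
  exact (cancel_epi (pullback.fst s D.sc.homologyπ)).1 h1

end NineData

end HomAlg41
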